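import Mathlib
import Groth.Prelude.Def_W4c6equivkfinstabCyc
import Groth.Agent.CycLoc.Basic

/-!
# The group ring of a finite abelian group is the product of its cyclotomic quotients
-/

set_option autoImplicit false
universe u v

open W4c6equivkfinstab

namespace Groth.Agent.CycCRT

lemma X_pow_sub_one_dvd {n : ℕ} (hn : 0 < n) :
    (Polynomial.X ^ n - 1 : Polynomial ℤ) ∣
      Polynomial.cyclotomic n ℤ * ∏ l ∈ n.primeFactors, (Polynomial.X ^ (n / l) - 1) := by
  rw [← Polynomial.map_dvd_map (Int.castRingHom ℚ) Int.cast_injective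
    (by simpa using Polynomial.monic_X_pow_sub_C (1 : ℤ) hn.ne' : (Polynomial.X ^ n - 1 : Polynomial ℤ).Monic)]
  simp only [Polynomial.map_mul, Polynomial.map_prod, Polynomial.map_sub, Polynomial.map_pow,
    Polynomial.map_X, Polynomial.map_one, Polynomial.map_cyclotomic]
  rw [← Polynomial.prod_cyclotomic_eq_X_pow_sub_one hn ℚ]
  refine Finset.prod_dvd_of_coprime (fun a _ b _ hab => Polynomial.cyclotomic.isCoprime_rat hab) fun d hd => ?_
  rw [Nat.mem_divisors] at hd
  rcases eq_or_ne d n with rfl | hne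
  · exact dvd_mul_right _ _
  · obtain ⟨e, rfl⟩ := hd.1
    have he : e ≠ 1 := fun h => hne (by simp [h])
    obtain ⟨l, hl, hle⟩ := Nat.exists_prime_and_dvd he
    have hmem : l ∈ (d * e).primeFactors :=
      Nat.mem_primeFactors.2 ⟨hl, hle.trans (dvd_mul_left _ _), hn.ne'⟩
    refine Dvd.dvd.mul_left ?_ _
    refine dvd_trans ?_ (Finset.dvd_prod_of_mem _ hmem)
    refine (Polynomial.cyclotomic.dvd_X_pow_sub_one d ℚ).trans ?_
    obtain ⟨f, hf⟩ : d ∣ d * e / l := by rw [Nat.mul_div_assoc _ hle]; exact dvd_mul_right _ _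
    rw [hf, pow_mul]
    exact sub_one_dvd_pow_sub_one _ f

lemma natCast_mem_span_of_pow_eq_one {R : Type*} [CommRing R] {l : ℕ} (hl : l.Prime) (X Y : R)
    (hY : Y ^ l = 1) (I : Ideal R) (hy : ∑ b ∈ Finset.range l, Y ^ b ∈ I)
    (hc : ∀ c < l, ∑ a ∈ Finset.range l, (X * Y ^ c) ^ a ∈ I) : (l : R) ∈ I := by
  have hper : ∀ m, Y ^ m = Y ^ (m % l) := fun m => by
    conv_lhs => rw [← Nat.mod_add_div m l, pow_add, pow_mul, hY, one_pow, mul_one]
  have hperm : ∀ a ∈ Finset.range l, a ≠ 0 →
      ∑ c ∈ Finset.range l, (Y ^ c) ^ a = ∑ b ∈ Finset.range l, Y ^ b := by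
    intro a ha ha0
    have hinj : Set.InjOn (fun c => c * a % l) (Finset.range l : Set ℕ) := by
      intro c hc c' hc' h
      have hcop : Nat.gcd l a = 1 := (hl.coprime_iff_not_dvd.2 fun h =>
        absurd (Nat.le_of_dvd (Nat.pos_of_ne_zero ha0) h) (not_le.2 (Finset.mem_range.1 ha)))
      have := Nat.ModEq.cancel_right_of_coprime hcop (h : c * a ≡ c' * a [MOD l])
      rw [Nat.ModEq, Nat.mod_eq_of_lt (Finset.mem_range.1 hc), Nat.mod_eq_of_lt (Finset.mem_range.1 hc')] at this
      exact this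
    have himg : (Finset.range l).image (fun c => c * a % l) = Finset.range l := by
      refine Finset.eq_of_subset_of_card_le ?_ (by rw [Finset.card_image_of_injOn hinj])
      intro m hm
      obtain ⟨c, -, rfl⟩ := Finset.mem_image.1 hm
      exact Finset.mem_range.2 (Nat.mod_lt _ hl.pos)
    conv_rhs => rw [← himg, Finset.sum_image hinj]
    exact Finset.sum_congr rfl fun c _ => by rw [← pow_mul, hper]
  have key : ∑ c ∈ Finset.range l, ∑ a ∈ Finset.range l, (X * Y ^ c) ^ a =
      (l : R) + (∑ a ∈ (Finset.range l).erase 0, X ^ a) * ∑ b ∈ Finset.range l, Y ^ b := by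
    rw [Finset.sum_comm, ← Finset.add_sum_erase _ _ (Finset.mem_range.2 hl.pos), Finset.sum_mul]
    congr 1
    · simp
    · refine Finset.sum_congr rfl fun a ha => ?_
      rw [Finset.mem_erase] at ha
      simp only [mul_pow]
      rw [← Finset.mul_sum, hperm a ha.2 ha.1]
  have h1 := I.sum_mem (t := Finset.range l) fun c hc' => hc c (Finset.mem_range.1 hc')
  rw [key] at h1
  exact (Submodule.add_mem_iff_left I (I.mul_mem_left _ hy)).1 h1

lemma isAddCyclic_of_prime_torsion {A : Type v} [AddCommGroup A] [Finite A]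
    (h : ∀ l : ℕ, l.Prime → ∀ x y : A, l • x = 0 → l • y = 0 → x ≠ 0 → y ∈ AddSubgroup.zmultiples x) :
    IsAddCyclic A := by
  classical
  letI := Fintype.ofFinite A
  refine isAddCyclic_of_card_nsmul_eq_zero_le fun n hn => ?_
  induction n using Nat.recOnMul with
  | zero => omega
  | one => simp [Finset.card_le_one]
  | prime l hl =>
    by_cases h0 : ∀ x : A, l • x = 0 → x = 0
    · refine le_trans (Finset.card_le_one.2 fun a ha b hb => ?_) hl.one_lt.le
      rw [Finset.mem_filter] at ha hb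
      rw [h0 a ha.2, h0 b hb.2]
    · push Not at h0
      obtain ⟨x, hx, hx0⟩ := h0
      refine le_trans (Finset.card_le_card (t := (Finset.range l).image (fun i => i • x)) fun y hy => ?_)
        (Finset.card_image_le.trans (by simp))
      rw [Finset.mem_filter] at hy
      obtain ⟨j, hj⟩ := mem_multiples_iff_mem_zmultiples.2 (h l hl x y hx hy.2 hx0)
      refine Finset.mem_image.2 ⟨j % l, Finset.mem_range.2 (Nat.mod_lt _ hl.pos), ?_⟩
      simp only at hj
      rw [← hj]
      conv_rhs => rw [← Nat.mod_add_div j l, add_smul, mul_smul, smul_comm, hx, smul_zero, add_zero]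
  | mul a b iha ihb =>
    rcases Nat.eq_zero_or_pos a with rfl | ha
    · simp at hn
    rcases Nat.eq_zero_or_pos b with rfl | hb
    · simp at hn
    calc _ ≤ b * ({x : A | a • x = 0} : Finset A).card := by
          refine Finset.card_le_mul_card_image_of_maps_to (f := fun x => b • x) (fun x hx => ?_) _ (fun z _ => ?_)
          · simp only [Finset.mem_filter, Finset.mem_univ, true_and] at hx ⊢
            rw [← mul_smul]; exact hx
          · rcases Finset.eq_empty_or_nonempty
              (({x : A | (a * b) • x = 0} : Finset A).filter fun x => b • x = z) with he | ⟨x₀, hx₀⟩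
            · rw [he]; simp
            · rw [Finset.mem_filter] at hx₀
              refine le_trans (Finset.card_le_card_of_injOn (t := ({x : A | b • x = 0} : Finset A))
                (fun x => x - x₀) ?_ (sub_left_injective.injOn)) (ihb hb)
              intro x hx
              simp only [Finset.coe_filter, Set.mem_setOf_eq, Finset.mem_filter] at hx
              simp [smul_sub, hx.2, hx₀.2]
      _ ≤ b * a := Nat.mul_le_mul_left _ (iha ha)
      _ = a * b := mul_comm _ _

section
variable {Λ : Type u} [CommRing Λ]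

/-- group element -/
noncomputable abbrev σ {A : Type v} [AddCommGroup A] (a : A) : AddMonoidAlgebra Λ A := AddMonoidAlgebra.single a 1

lemma σ_pow {A : Type v} [AddCommGroup A] (a : A) (i : ℕ) : (σ a : AddMonoidAlgebra Λ A) ^ i = σ (i • a) := by
  simp [σ, AddMonoidAlgebra.single_pow]

/-- norm of a cyclic subgroup -/
noncomputable abbrev S {A : Type v} [AddCommGroup A] (a : A) : AddMonoidAlgebra Λ A :=
  ∑ i ∈ Finset.range (addOrderOf a), σ a ^ i

lemma aeval_mapDomain {A A' : Type v} [AddCommGroup A] [AddCommGroup A'] (f : A →+ A') (a : A) (P : Polynomial Λ) :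
    AddMonoidAlgebra.mapDomainRingHom Λ f (Polynomial.aeval (σ a) P) = Polynomial.aeval (σ (f a)) P := by
  rw [Polynomial.aeval_def, Polynomial.hom_eval₂, Polynomial.aeval_def]
  congr 1
  · refine RingHom.ext fun r => ?_
    simp [AddMonoidAlgebra.mapDomainRingHom_apply]
  · simp [AddMonoidAlgebra.mapDomainRingHom_apply]

lemma map_cycIdeal {A A' : Type v} [AddCommGroup A] [AddCommGroup A'] (f : A →+ A') (hf : Function.Bijective f) :
    (cycIdeal Λ A).map (AddMonoidAlgebra.mapDomainRingHom Λ f) ≤ cycIdeal Λ A' := by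
  rw [cycIdeal, Ideal.map_span, Ideal.span_le]
  rintro _ ⟨_, ⟨g, hg, rfl⟩, rfl⟩
  refine Ideal.subset_span ⟨f g, ?_, ?_⟩
  · rw [← AddMonoidHom.map_zmultiples, hg, AddSubgroup.map_top_of_surjective f hf.2]
  · rw [← Nat.card_eq_of_bijective f hf]
    exact aeval_mapDomain f g _

lemma mul_S_eq_zero {A : Type v} [AddCommGroup A] [Finite A] (u : A) (x : AddMonoidAlgebra Λ A)
    (hx : quotMap Λ A (AddSubgroup.zmultiples u) x = 0) : x * S u = 0 := by
  classical
  let H := AddSubgroup.zmultiples u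
  let ψ : AddMonoidAlgebra Λ (A ⧸ H) →+ AddMonoidAlgebra Λ A :=
    (AddMonoidHom.mulRight (S u)).comp
      (AddMonoidHom.mk' (AddMonoidAlgebra.mapDomain (R := Λ) (Quotient.out : A ⧸ H → A)) (AddMonoidAlgebra.mapDomain_add _))
  have hS : σ u * S u = S (Λ := Λ) u := by
    have h1 : (σ u - 1) * S u = (0 : AddMonoidAlgebra Λ A) := by
      rw [S, mul_geom_sum, σ_pow, addOrderOf_nsmul_eq_zero]
      exact sub_self _
    rwa [sub_mul, one_mul, sub_eq_zero] at h1
  have hShom : ∀ j : ℕ, σ (j • u) * S u = S (Λ := Λ) u := fun j => by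
    induction j with
    | zero => simp [σ, ← AddMonoidAlgebra.one_def]
    | succ j ih => rw [← σ_pow, pow_succ, mul_assoc, hS, σ_pow, ih]
  have key : ∀ y, ψ (quotMap Λ A H y) = y * S u := by
    intro y
    induction y using AddMonoidAlgebra.induction_linear with
    | zero => rw [map_zero, map_zero, zero_mul]
    | add a b ha hb => rw [map_add, map_add, ha, hb, add_mul]
    | single a r =>
      rw [Groth.Agent.CycLoc.quotMap_single]
      obtain ⟨j, hj⟩ := mem_multiples_iff_mem_zmultiples.2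
        (QuotientAddGroup.eq.1 (Quotient.out_eq (a : A ⧸ H)) : -(Quotient.out (a : A ⧸ H)) + a ∈ H)
      simp only at hj
      have e : AddMonoidAlgebra.single a r =
          AddMonoidAlgebra.single (Quotient.out (a : A ⧸ H)) r * σ (Λ := Λ) (j • u) := by
        rw [AddMonoidAlgebra.single_mul_single, hj, add_neg_cancel_left, mul_one]
      rw [e, mul_assoc, hShom]
      simp [ψ]
  rw [← key x, hx, map_zero]

theorem eq_zero_of_forall : ∀ (n : ℕ) (A : Type v) [AddCommGroup A] [Finite A], Nat.card A = n →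
    IsUnit ((n : ℕ) : Λ) → ∀ x : AddMonoidAlgebra Λ A,
      (∀ B : AddSubgroup A, IsAddCyclic (A ⧸ B) → cycQuotMap Λ A B x = 0) → x = 0 := by
  intro n
  induction n using Nat.strong_induction_on with
  | _ n ih =>
  intro A _ _ hn hu x hx
  classical
  have hnpos : 0 < n := hn ▸ Nat.card_pos
  have hunit : ∀ l, l ∣ n → IsUnit ((l : ℕ) : Λ) := fun l ⟨m, hm⟩ => by
    rw [hm, Nat.cast_mul, IsUnit.mul_iff] at hu; exact hu.1
  have hS : ∀ u : A, u ≠ 0 → x * S u = 0 := by
    intro u hu0
    refine mul_S_eq_zero u x ?_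
    let H := AddSubgroup.zmultiples u
    have hdvd : Nat.card (A ⧸ H) ∣ n := hn ▸ H.card_quotient_dvd_card
    have hlt : Nat.card (A ⧸ H) < n := by
      rw [← hn, AddSubgroup.card_eq_card_quotient_mul_card_addSubgroup H]
      refine lt_mul_of_one_lt_right Nat.card_pos ?_
      rw [Nat.card_zmultiples]
      have h1 : addOrderOf u ≠ 1 := fun e => hu0 (AddMonoid.addOrderOf_eq_one_iff.1 e)
      have := addOrderOf_pos u
      omega
    refine ih _ hlt (A ⧸ H) rfl (hunit _ hdvd) _ fun B hB => ?_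
    let f : A →+ (A ⧸ H) ⧸ B := (QuotientAddGroup.mk' B).comp (QuotientAddGroup.mk' H)
    let e : A ⧸ f.ker ≃+ (A ⧸ H) ⧸ B := QuotientAddGroup.quotientKerEquivOfSurjective f
      ((QuotientAddGroup.mk'_surjective B).comp (QuotientAddGroup.mk'_surjective H))
    have hcyc : IsAddCyclic (A ⧸ f.ker) :=
      isAddCyclic_of_surjective e.symm.toAddMonoidHom e.symm.surjective
    have h1 : quotMap Λ A f.ker x ∈ cycIdeal Λ (A ⧸ f.ker) :=
      Ideal.Quotient.eq_zero_iff_mem.1 (hx f.ker hcyc)
    have h2 := map_cycIdeal (Λ := Λ) e.toAddMonoidHom e.bijective (Ideal.mem_map_of_mem _ h1)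
    refine Ideal.Quotient.eq_zero_iff_mem.2 ?_
    convert h2 using 1
    simp only [quotMap, ← RingHom.comp_apply, ← AddMonoidAlgebra.mapDomainRingHom_comp]
    rfl
  by_cases hcyc : IsAddCyclic A
  · obtain ⟨g₀, hg₀⟩ := IsAddCyclic.exists_generator (α := A)
    have hg₀' : addOrderOf g₀ = n := hn ▸ addOrderOf_eq_card_of_forall_mem_zmultiples hg₀
    let c : ℕ → Λ := fun l => if h : IsUnit (l : Λ) then ↑h.unit⁻¹ else 0
    let π : AddMonoidAlgebra Λ A := ∏ l ∈ n.primeFactors, (1 - algebraMap Λ _ (c l) * S ((n / l) • g₀))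
    have hord : ∀ l ∈ n.primeFactors, addOrderOf ((n / l) • g₀) = l := fun l hl => by
      obtain ⟨hlp, hld, -⟩ := Nat.mem_primeFactors.1 hl
      obtain ⟨m, rfl⟩ := hld
      rw [Nat.mul_div_cancel_left _ hlp.pos, addOrderOf_nsmul, hg₀', Nat.gcd_eq_right (dvd_mul_left m l)]
      exact Nat.mul_div_cancel _ (Nat.pos_of_ne_zero fun e => by simp [e] at hnpos)
    have hxπ : x * π = x := by
      refine Finset.prod_induction _ (fun y => x * y = x) (fun a b ha hb => by rw [← mul_assoc, ha, hb])
        (mul_one x) fun l hl => ?_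
      have hne : (n / l) • g₀ ≠ 0 := fun e => by
        have := hord l hl
        rw [e, addOrderOf_zero] at this
        exact (Nat.prime_of_mem_primeFactors hl).ne_one this.symm
      rw [mul_sub, mul_one, mul_left_comm, hS _ hne, mul_zero, sub_zero]
    have hker : ∀ g : A, AddSubgroup.zmultiples g = ⊤ →
        Polynomial.aeval (σ g) (Polynomial.cyclotomic (Nat.card A) Λ) * π = 0 := by
      intro g hg
      let t : AddMonoidAlgebra Λ A := σ g
      have hπ : π ∈ Ideal.span {∏ l ∈ n.primeFactors, (t ^ (n / l) - 1)} := by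
        rw [← Ideal.prod_span_singleton]
        refine Ideal.prod_mem_prod fun l hl => ?_
        obtain ⟨j, hj⟩ := mem_multiples_iff_mem_zmultiples.2 (hg ▸ AddSubgroup.mem_top g₀)
        simp only at hj
        have hT : (σ ((n / l) • g₀) : AddMonoidAlgebra Λ A) = (t ^ (n / l)) ^ j := by
          rw [σ_pow, σ_pow, smul_comm, hj]
        have hl' : IsUnit (l : Λ) := hunit l (Nat.dvd_of_mem_primeFactors hl)
        have hc : algebraMap Λ (AddMonoidAlgebra Λ A) (c l) * (l : AddMonoidAlgebra Λ A) = 1 := by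
          rw [← map_natCast (algebraMap Λ (AddMonoidAlgebra Λ A)), ← map_mul]
          simp [c, hl', AddMonoidAlgebra.one_def]
        rw [← Ideal.Quotient.eq_zero_iff_mem, map_sub, map_one, sub_eq_zero, map_mul]
        have h0 : Ideal.Quotient.mk (Ideal.span {t ^ (n / l) - 1}) (t ^ (n / l)) = 1 := by
          rw [← map_one (Ideal.Quotient.mk (Ideal.span {t ^ (n / l) - 1})), Ideal.Quotient.eq]
          exact Ideal.mem_span_singleton_self _
        rw [S, hord l hl, map_sum]
        simp only [map_pow, hT, h0, one_pow, Finset.sum_const, Finset.card_range, nsmul_one]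
        rw [← map_natCast (Ideal.Quotient.mk (Ideal.span {t ^ (n / l) - 1})), ← map_mul, hc, map_one]
      obtain ⟨a, ha⟩ := Ideal.mem_span_singleton'.1 hπ
      have htn : t ^ n = 1 := by
        rw [σ_pow, ← hn, card_nsmul_eq_zero']
        simp [σ, AddMonoidAlgebra.one_def]
      obtain ⟨q, hq⟩ := X_pow_sub_one_dvd hnpos
      have h2 := congrArg (Polynomial.aeval t) hq
      simp only [map_mul, map_prod, map_sub, map_pow, Polynomial.aeval_X, map_one, htn, sub_self, zero_mul] at h2
      have hΦ : Polynomial.aeval t (Polynomial.cyclotomic n Λ) = Polynomial.aeval t (Polynomial.cyclotomic n ℤ) := by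
        rw [← Polynomial.map_cyclotomic n (algebraMap ℤ Λ), Polynomial.aeval_map_algebraMap]
      rw [hn, ← ha, mul_left_comm, hΦ, h2, mul_zero]
    have hxI : x ∈ cycIdeal Λ A := by
      haveI : IsAddCyclic (A ⧸ (⊥ : AddSubgroup A)) :=
        isAddCyclic_of_surjective (QuotientAddGroup.mk' ⊥) (QuotientAddGroup.mk'_surjective ⊥)
      have h1 : quotMap Λ A ⊥ x ∈ cycIdeal Λ (A ⧸ (⊥ : AddSubgroup A)) :=
        Ideal.Quotient.eq_zero_iff_mem.1 (hx ⊥ inferInstance)
      let e : A ⧸ (⊥ : AddSubgroup A) ≃+ A := QuotientAddGroup.quotientBot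
      have h2 := map_cycIdeal (Λ := Λ) e.toAddMonoidHom e.bijective (Ideal.mem_map_of_mem _ h1)
      convert h2 using 1
      have : e.toAddMonoidHom.comp (QuotientAddGroup.mk' (⊥ : AddSubgroup A)) = AddMonoidHom.id A := rfl
      simp only [quotMap, ← RingHom.comp_apply, ← AddMonoidAlgebra.mapDomainRingHom_comp, this]
      simp
    have hI : cycIdeal Λ A ≤ LinearMap.ker (LinearMap.mulRight (AddMonoidAlgebra Λ A) π) :=
      Ideal.span_le.2 fun y ⟨g, hg, hy⟩ => by subst hy; exact hker g hg
    rw [← hxπ]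
    exact hI hxI
  · obtain ⟨l, hl, a, b, ha, hb, ha0, hab⟩ : ∃ l : ℕ, l.Prime ∧ ∃ a b : A, l • a = 0 ∧ l • b = 0 ∧ a ≠ 0 ∧
        b ∉ AddSubgroup.zmultiples a := by
      by_contra! hcon
      exact hcyc (isAddCyclic_of_prime_torsion fun l hl a b => hcon l hl a b)
    haveI := Fact.mk hl
    have hordv : ∀ v : A, v ≠ 0 → l • v = 0 → addOrderOf v = l := fun v hv hlv => addOrderOf_eq_prime hlv hv
    have hb' : addOrderOf a = l := hordv a ha0 ha
    have hmem : (l : AddMonoidAlgebra Λ A) ∈ LinearMap.ker (LinearMap.mulLeft (AddMonoidAlgebra Λ A) x) := by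
      refine natCast_mem_span_of_pow_eq_one hl (σ b) (σ a) ?_ _ ?_ fun c hc => ?_
      · rw [σ_pow, ha]; rfl
      · have := hS a ha0
        rwa [S, hb'] at this
      · have hv0 : b + c • a ≠ 0 := fun e => hab (by
          rw [eq_neg_of_add_eq_zero_left e]
          exact neg_mem (AddSubgroup.nsmul_mem _ (AddSubgroup.mem_zmultiples a) c))
        have hv : σ b * σ a ^ c = (σ (b + c • a) : AddMonoidAlgebra Λ A) := by
          rw [σ_pow, σ, σ, σ, AddMonoidAlgebra.single_mul_single, one_mul]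
        have := hS _ hv0
        rw [S, hordv _ hv0 (by rw [smul_add, hb, smul_comm, ha, smul_zero, add_zero])] at this
        rw [hv]
        exact this
    have hla : IsUnit ((l : ℕ) : Λ) := hunit l (hb' ▸ hn ▸ addOrderOf_dvd_natCard a)
    have hla' := hla.map (algebraMap Λ (AddMonoidAlgebra Λ A))
    rw [map_natCast] at hla'
    exact hla'.mul_left_eq_zero.1 hmem

theorem coprime {A : Type v} [AddCommGroup A] [Finite A] (hu : IsUnit ((Nat.card A : ℕ) : Λ))
    (B B' : AddSubgroup A) [IsAddCyclic (A ⧸ B)] [IsAddCyclic (A ⧸ B')] (hne : B ≠ B') :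
    RingHom.ker (cycQuotMap Λ A B) ⊔ RingHom.ker (cycQuotMap Λ A B') = ⊤ := by
  by_contra h
  obtain ⟨𝔪, hm, hle⟩ := Ideal.exists_le_maximal _ h
  have hunit : ∀ C : AddSubgroup A, IsUnit ((C.index : ℕ) : Λ) := fun C => by
    obtain ⟨m, hm⟩ := C.index_dvd_card
    rw [hm, Nat.cast_mul, IsUnit.mul_iff] at hu
    exact hu.1
  refine hne ?_
  ext m
  rw [← Groth.Agent.CycLoc.mem_iff_eq_one Λ A B (Ideal.Quotient.mk 𝔪) (by rw [Ideal.mk_ker]; exact le_sup_left.trans hle)
      (Groth.Agent.CycLoc.natCast_ne_zero_of_isUnit Λ A (hunit B)) m,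
    Groth.Agent.CycLoc.mem_iff_eq_one Λ A B' (Ideal.Quotient.mk 𝔪) (by rw [Ideal.mk_ker]; exact le_sup_right.trans hle)
      (Groth.Agent.CycLoc.natCast_ne_zero_of_isUnit Λ A (hunit B')) m]

theorem bijective (Λ : Type u) [CommRing Λ] (A : Type v) [AddCommGroup A] [Finite A]
    (hA : IsUnit ((Nat.card A : ℕ) : Λ)) :
    Function.Bijective (RingHom.pi fun B : {B : AddSubgroup A // IsAddCyclic (A ⧸ B)} =>
      cycQuotMap Λ A B.1) := by
  refine ⟨(injective_iff_map_eq_zero _).2 fun x hx =>
    eq_zero_of_forall _ A rfl hA x fun B hB => congrFun hx ⟨B, hB⟩, fun y => ?_⟩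
  haveI : Finite {B : AddSubgroup A // IsAddCyclic (A ⧸ B)} := by infer_instance
  choose z hz using fun B : {B : AddSubgroup A // IsAddCyclic (A ⧸ B)} =>
    ((Ideal.Quotient.mk_surjective.comp (Groth.Agent.CycLoc.quotMap_surjective Λ A B.1)) (y B))
  obtain ⟨x, hx⟩ := Ideal.exists_forall_sub_mem_ideal
    (I := fun B : {B : AddSubgroup A // IsAddCyclic (A ⧸ B)} => RingHom.ker (cycQuotMap Λ A B.1))
    (fun B B' hne => by
      haveI := B.2; haveI := B'.2
      exact Ideal.isCoprime_iff_sup_eq.2 (coprime hA _ _ (fun e => hne (Subtype.ext e)))) z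
  refine ⟨x, funext fun B => ?_⟩
  have h := RingHom.mem_ker.1 (hx B)
  rw [map_sub, sub_eq_zero] at h
  exact h.trans (hz B)

end

end Groth.Agent.CycCRT
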